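import Groth.Agent.BunMod.K763.Tw
import Groth.Agent.OmegaSh.K583.BaseChange
import Groth.Agent.OmegaSh.K583.ExistsUniv

/-!
# Derivations of `O_{X ×_B T}` over `O_X` from derivations of the affine scheme `T` over `B`
-/

set_option autoImplicit false
set_option linter.unusedVariables false

universe u

open CategoryTheory CategoryTheory.Limits AlgebraicGeometry TopologicalSpace Opposite OmegaSh

namespace K763.DerBase

open K583.DerAffine K583.DerFunct K763.Tw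

variable {X Z T B : Scheme.{u}}

/-- A derivation into the structure sheaf, unbundled. -/
noncomputable def ofDer {q : Z ⟶ X} (E : Der q (Coh.structureModule Z)) : ODer q where
  d U := (fnSect Z U).comp (E.app U)
  mul U a b := app_mul E U a b
  map {U V} h a := app_map E h a
  base V c := app_base E V c

theorem ofDer_d {q : Z ⟶ X} (E : Der q (Coh.structureModule Z)) (U : Z.Opens) (a : Γ(Z, U)) :
    (ofDer E).d U a = fnSect Z U (E.app U a) := rfl

/-- Derivations with values in an `O_Z`-module. -/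
theorem exists_der_pullback {q : Z ⟶ X} {h : Z ⟶ T} {f : X ⟶ B} {t : T ⟶ B} [IsAffine T] [IsAffine B]
    (hsq : IsPullback q h f t) (F : Z.Modules) (δ : Γ(T, ⊤) →+ Γ(F, ⊤))
    (hδ : ∀ a b : Γ(T, ⊤), δ (a * b) = h.appTop a • δ b + h.appTop b • δ a)
    (h0 : ∀ c : Γ(B, ⊤), δ (t.appTop c) = 0) :
    ∃ D : Der q F, ∀ r : Γ(T, ⊤), D.app ⊤ (h.appTop r) = δ r := by
  obtain ⟨Ω, d, hd⟩ := K583.ExistsUniv.exists_isUniversal t
  obtain ⟨Ω', d', hd'⟩ := K583.ExistsUniv.exists_isUniversal q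
  obtain ⟨E, hE⟩ := exists_der t ((Scheme.Modules.pushforward h).obj F) δ hδ h0
  have w : q ≫ f = h ≫ t := hsq.w
  let c := diffMap w hd d'
  have hc : IsDiffCompat h d d' c := isDiffCompat_diffMap w hd d'
  have hi : IsIso c := K583.BaseChange.isIso_of_isPullback hsq.flip hd hd' hc
  let γ : Ω ⟶ (Scheme.Modules.pushforward h).obj F := univLift hd E
  refine ⟨d'.postcomp (inv c ≫ adj h γ).val, fun r => ?_⟩
  have h1 : d'.app (h ⁻¹ᵁ ⊤) (h.app ⊤ r) = c.app (h ⁻¹ᵁ ⊤) (pullSect h Ω ⊤ (d.app ⊤ r)) := (hc ⊤ r).symm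
  have h2 : (c ≫ inv c ≫ adj h γ).app (h ⁻¹ᵁ ⊤) (pullSect h Ω ⊤ (d.app ⊤ r)) =
      (show Γ(F, h ⁻¹ᵁ ⊤) from γ.app ⊤ (d.app ⊤ r)) := by
    rw [IsIso.hom_inv_id_assoc, adj_pullSect]
  change (inv c ≫ adj h γ).app (h ⁻¹ᵁ ⊤) (d'.app (h ⁻¹ᵁ ⊤) (h.app ⊤ r)) = δ r
  rw [h1]
  refine Eq.trans h2 ?_
  change (univLift hd E).app ⊤ (d.app ⊤ r) = δ r
  rw [univLift_app, hE]
  rfl

/-- Derivations of `T` over `B` extend to derivations of `X ×_B T` over `X`. -/
theorem exists_oder {q : Z ⟶ X} {h : Z ⟶ T} {f : X ⟶ B} {t : T ⟶ B} [IsAffine T] [IsAffine B]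
    (hsq : IsPullback q h f t) (δ : Γ(T, ⊤) →+ Γ(T, ⊤))
    (hδ : ∀ a b : Γ(T, ⊤), δ (a * b) = a * δ b + b * δ a)
    (h0 : ∀ c : Γ(B, ⊤), δ (t.appTop c) = 0) :
    ∃ D : ODer q, ∀ r : Γ(T, ⊤), D.d ⊤ (h.appTop r) = h.appTop (δ r) := by
  obtain ⟨E, hE⟩ := exists_der_pullback hsq (Coh.structureModule Z)
    ((strSect Z ⊤).comp (h.appTop.hom.toAddMonoidHom.comp δ)) (fun a b => by
      change strSect Z ⊤ (h.appTop (δ (a * b))) = _
      rw [hδ, map_add, map_mul, map_mul, map_add, strSect_mul, strSect_mul]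
      rfl) (fun c => by
      change strSect Z ⊤ (h.appTop (δ (t.appTop c))) = _
      rw [h0, map_zero, map_zero])
  refine ⟨ofDer E, fun r => ?_⟩
  rw [ofDer_d, hE]
  rfl

end K763.DerBase
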