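import Groth.Agent.BunMod.K311.Van
import Groth.Agent.VarietyB.FlatH0
import Groth.Agent.BunMod.K890.KSDefs

/-!
# Homomorphisms `K_A ⟶ G_A` over `X_A` are combinations of the `e_i` (helper763)

`e_1, …, e_M` generators of `Hom(K, G)` over `k`.

* `hspan_T`: for every affine `k`-scheme `T` every `K_T ⟶ G_T` is `∑ v_i e_i`, `v_i ∈ Γ(T, O)`;
* `hspan`: the form over `Spec A`.
-/

set_option autoImplicit false
universe u

open CategoryTheory CategoryTheory.Limits AlgebraicGeometry Opposite MonoidalCategory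

namespace K763.HSpan

open scoped Groth.Agent.Dcoh.MonCat
open K140.BM K524.X1Fam K311.KE K311.Sec Groth.Agent Groth.Agent.Fdesc Groth.Agent.Fdesc.LocGen
open Groth.Agent.LoccohB.HHmap (smulHom)
open Groth.Agent.LoccohB.SectLin303 Groth.Agent.VarietyB.FlatH0 Groth.Agent.VarietyB.PullSec K890.KS
open Groth.Agent.CohqA.PullbackAffine Groth.Agent.CohqA.PullbackSections Groth.Agent.CohqA.AffineBaseChange

variable {k : Type u} [Field k] {X : Scheme.{u}} [X.Over (Spec (CommRingCat.of k))] {K G : X.Modules} {n : ℕ}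
  (e : Fin n → (K ⟶ G))

theorem uu_add (T : Over (B0 k)) (c d : Fin n → Γ(T.left, ⊤)) : uu e T (c + d) = uu e T c + uu e T d := by
  unfold uu
  rw [← Finset.sum_add_distrib]
  refine Finset.sum_congr rfl fun i _ => ?_
  rw [Pi.add_apply, map_add, add_smul]

theorem uu_smul (T : Over (B0 k)) (a : Γ(T.left, ⊤)) (c : Fin n → Γ(T.left, ⊤)) :
    uu e T (fun i => a * c i) = fT k X T a • uu e T c := by
  unfold uu
  rw [Finset.smul_sum]
  refine Finset.sum_congr rfl fun i _ => ?_
  rw [map_mul, mul_smul]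

theorem uu_zero (T : Over (B0 k)) : uu e T (0 : Fin n → Γ(T.left, ⊤)) = 0 := by
  unfold uu
  refine Finset.sum_eq_zero fun i _ => ?_
  rw [Pi.zero_apply, map_zero, zero_smul]

/-- Over an affine base every homomorphism is a combination of the `e_i`. -/
theorem hspan_T [CompactSpace X] [QuasiSeparatedSpace X] (K' : X.Modules) [ExactPairing K K']
    (hq : Coh.IsQCoh (CohB1.tensorMod G K')) (he : ∀ φ : K ⟶ G, ∃ a : Fin n → k, φ = ua e a)
    (T : Over (B0 k)) [IsAffine T.left] (φ : cst k T K ⟶ cst k T G) :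
    ∃ v : Fin n → Γ(T.left, ⊤), φ = uu e T v := by
  let q : PicF.XT (st k X) T ⟶ X := pullback.fst (st k X) T.hom
  have H : IsPullback q (PicF.XTproj (st k X) T) (st k X) T.hom := IsPullback.of_hasPullback _ _
  have h1 := (isBC_top H (CohB1.tensorMod G K') hq).span_eq_top
  let i4 := modOver (PicF.XTproj (st k X) T) ((Scheme.Modules.pullback q).obj (CohB1.tensorMod G K'))
    (US := ⊤) (UX := ⊤) le_top
  have h2 : ∀ s : Γ((Scheme.Modules.pullback q).obj (CohB1.tensorMod G K'), ⊤),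
      ∃ v : Fin n → Γ(T.left, ⊤), s = psec q K K' G (uu e T v) := by
    intro s
    have hs : s ∈ Submodule.span Γ(T.left, ⊤) (Set.range (VarietyB.PullSec.sec q (CohB1.tensorMod G K')
      (show (⊤ : (PicF.XT (st k X) T).Opens) ≤ q ⁻¹ᵁ (⊤ : X.Opens) from le_top))) :=
      (Submodule.eq_top_iff'.1 h1) s
    have hz : psec q K K' G (uu e T 0) = 0 := by
      have := psec_add q K K' G (uu e T 0) (uu e T 0)
      rw [← uu_add, add_zero] at this
      exact left_eq_add.mp this
    refine Submodule.span_induction (p := fun s _ => ∃ v : Fin n → Γ(T.left, ⊤), s = psec q K K' G (uu e T v))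
      ?_ ⟨0, hz.symm⟩ ?_ ?_ hs
    · rintro _ ⟨m, rfl⟩
      obtain ⟨ψ, rfl⟩ := (bijective_sec K K' G).2 m
      obtain ⟨a, rfl⟩ := he ψ
      refine ⟨_, Eq.trans ?_ (congrArg (psec q K K' G) (uu_const e T a).symm)⟩
      refine Eq.trans ?_ (psec_map q K K' (ua e a)).symm
      exact LocGen.res_refl _ _
    · rintro x y _ _ ⟨v, rfl⟩ ⟨w, rfl⟩
      exact ⟨v + w, by rw [uu_add, psec_add]⟩
    · rintro a x _ ⟨v, rfl⟩
      refine ⟨fun i => a * v i, ?_⟩
      rw [uu_smul, psec_smul]
      have h5 : (PicF.XTproj (st k X) T).appLE ⊤ ⊤ le_top = (PicF.XTproj (st k X) T).appTop :=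
        Scheme.Hom.appLE_eq_app _
      have h6 : fT k X T a = ((PicF.XTproj (st k X) T).appLE ⊤ ⊤ le_top).hom a := by
        rw [h5]
        rfl
      rw [h6]
      rfl
  obtain ⟨v, hv⟩ := h2 (psec q K K' G φ)
  exact ⟨v, (bijective_psec q K K' G).1 hv⟩

/-- The form over `Spec A`. -/
theorem hspan_of_pairing [CompactSpace X] [QuasiSeparatedSpace X] (K' : X.Modules) [ExactPairing K K']
    (hq : Coh.IsQCoh (CohB1.tensorMod G K')) (he : ∀ φ : K ⟶ G, ∃ a : Fin n → k, φ = ua e a)
    (A : Type u) [CommRing A] [Algebra k A] (φ : cst k (SpA k A) K ⟶ cst k (SpA k A) G) :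
    ∃ v : Fin n → A, φ = ueA e A v := by
  have : IsAffine (SpA k A).left := inferInstanceAs (IsAffine (Spec (CommRingCat.of A)))
  obtain ⟨v, rfl⟩ := hspan_T e K' hq he (SpA k A) φ
  refine ⟨fun i => ((Scheme.ΓSpecIso (CommRingCat.of A)).hom (v i) : A), ?_⟩
  have h1 : ∀ x : Γ((SpA k A).left, ⊤), fn k ((Scheme.ΓSpecIso (CommRingCat.of A)).hom x : A) = x := by
    intro x
    change (Scheme.ΓSpecIso (CommRingCat.of A)).inv ((Scheme.ΓSpecIso (CommRingCat.of A)).hom x) = x
    rw [← ConcreteCategory.comp_apply, Iso.hom_inv_id]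
    rfl
  have h2 : (fun i => fn k ((Scheme.ΓSpecIso (CommRingCat.of A)).hom (v i) : A)) = v := funext fun i => h1 _
  change uu e (SpA k A) v = uu e (SpA k A) (fun i => fn k ((Scheme.ΓSpecIso (CommRingCat.of A)).hom (v i) : A))
  rw [h2]

/-- The form for `K` and `G` finite locally free on a proper scheme. -/
theorem hspan [IsProper (X ↘ Spec (CommRingCat.of k))] (hK : FlatMod.IsFinLocFree K)
    (hG : FlatMod.IsFinLocFree G) (he : ∀ φ : K ⟶ G, ∃ a : Fin n → k, φ = ua e a) (A : Type u) [CommRing A]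
    [Algebra k A] (φ : cst k (SpA k A) K ⟶ cst k (SpA k A) G) : ∃ v : Fin n → A, φ = ueA e A v := by
  obtain ⟨K', ⟨i⟩⟩ := Groth.Agent.Dcoh.DualFLF.exists_exactPairing hK
  have hK' : FlatMod.IsFinLocFree K' := Groth.Agent.Dcoh.DualFLF.isFinLocFree_dual hK K'
  have hq : Coh.IsQCoh (CohB1.tensorMod G K') :=
    Groth.Agent.PerfA.QCohEpi.isQCoh_of_isFinLocFree (Groth.Agent.Sga67.LocBasis.isFinLocFree_tensorMod hG hK')
  have hc : CompactSpace X := (quasiCompact_iff_compactSpace (f := X ↘ Spec (CommRingCat.of k))).mp inferInstance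
  have hs : QuasiSeparatedSpace X :=
    (quasiSeparated_iff_quasiSeparatedSpace (f := X ↘ Spec (CommRingCat.of k))).mp inferInstance
  exact hspan_of_pairing e K' hq he A φ

/-- The form for a basis of `Hom(K, G)`. -/
theorem hspan_basis [IsProper (X ↘ Spec (CommRingCat.of k))] (hK : FlatMod.IsFinLocFree K)
    (hG : FlatMod.IsFinLocFree G) (he : HomBasis (st k X) e) (A : Type u) [CommRing A] [Algebra k A]
    (φ : cst k (SpA k A) K ⟶ cst k (SpA k A) G) : ∃ v : Fin n → A, φ = ueA e A v := by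
  refine hspan e hK hG (fun φ => ?_) A φ
  obtain ⟨c, hc, -⟩ := he φ
  exact ⟨c, hc⟩

end K763.HSpan
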