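import Groth.Agent.BunMod.K763.DerBase
import Groth.Agent.BunMod.K890.KSDefs

/-!
# Derivations kill the class of a cokernel family (helper763)

* `exists_D`: derivations of `Γ(T, O)` over `k`, `T` affine, extend to `O_{X_T}` (and kill `O_X`);
* `der_uu`: the derivative of `∑ c_i e_i : K_T ⟶ G_T` is `∑ δ(c_i) e_i`;
* `exists_sff`: for `S ⟶ G_T ⟶ Q` with zero composite, and `β : K_T ⟶ S` a lift of `∑ c_i e_i`, the map
  `(∑ δ(c_i) e_i) ≫ p : K_T ⟶ Q` extends along `β`;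
* `ksKill : KSKill e A c`.
-/

set_option autoImplicit false
universe u

open CategoryTheory CategoryTheory.Limits AlgebraicGeometry TopologicalSpace Opposite

namespace K763.KS

open K140.BM K524.X1Fam K311.KE Groth.Agent Groth.Agent.LoccohB.HHmap Groth.Agent.LoccohB.SectLin303
  Groth.Agent.LoccohB.GlueHom K763.Tw K763.DerBase K890.KS

section gen

variable {X Z : Scheme.{u}} {q : Z ⟶ X} {D : ODer q}

theorem der_smul {E F : Z.Modules} (m : Con D E) (n : Con D F) (r : Γ(Z, ⊤)) (α : E ⟶ F) :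
    der m n (r • α) = D.d ⊤ r • α + r • der m n α := by
  apply Scheme.Modules.hom_ext
  intro U
  ext s
  have e1 : resO (le_top : U ≤ ⊤) (D.d ⊤ r) = D.d U (resO (le_top : U ≤ ⊤) r) :=
    (D.map (le_top : U ≤ ⊤) r).symm
  change n.nab U (α.app U (resO (le_top : U ≤ ⊤) r • s)) - α.app U (resO (le_top : U ≤ ⊤) r • m.nab U s) =
    α.app U (resO (le_top : U ≤ ⊤) (D.d ⊤ r) • s) +
      (n.nab U (α.app U (resO (le_top : U ≤ ⊤) r • s)) - α.app U (m.nab U (resO (le_top : U ≤ ⊤) r • s)))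
  rw [m.leib, _root_.map_add, e1]
  abel

end gen

variable {k : Type u} [Field k] {X : Scheme.{u}} [X.Over (Spec (CommRingCat.of k))]

/-- Derivations of `Γ(T, O)` over `k` extend to `X_T`. -/
theorem exists_D (T : Over (B0 k)) [IsAffine T.left] (δ : Γ(T.left, ⊤) →+ Γ(T.left, ⊤))
    (hδ : ∀ a b, δ (a * b) = a * δ b + b * δ a) (h0 : ∀ c, δ (T.hom.appTop c) = 0) :
    ∃ D : ODer (pullback.fst (st k X) T.hom), ∀ r, D.d ⊤ (fT k X T r) = fT k X T (δ r) :=
  exists_oder (IsPullback.of_hasPullback (st k X) T.hom) δ hδ h0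

variable {K G : X.Modules} {n : ℕ} (e : Fin n → (K ⟶ G))

theorem der_uu (T : Over (B0 k)) (δ : Γ(T.left, ⊤) →+ Γ(T.left, ⊤))
    (D : ODer (pullback.fst (st k X) T.hom)) (hD : ∀ r, D.d ⊤ (fT k X T r) = fT k X T (δ r))
    (c : Fin n → Γ(T.left, ⊤)) :
    der (canon D K) (canon D G) (uu e T c) = uu e T (fun i => δ (c i)) := by
  unfold uu
  rw [der_sum]
  refine Finset.sum_congr rfl fun i _ => ?_
  rw [der_smul, hD, der_map, smul_zero, add_zero]

/-- **The second fundamental form** extends the derivative of `∑ c_i e_i`. -/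
theorem exists_sff (T : Over (B0 k)) [IsAffine T.left] (δ : Γ(T.left, ⊤) →+ Γ(T.left, ⊤))
    (hδ : ∀ a b, δ (a * b) = a * δ b + b * δ a) (h0 : ∀ c, δ (T.hom.appTop c) = 0)
    (c : Fin n → Γ(T.left, ⊤)) {S Q : (PicF.XT (st k X) T).Modules} (i : S ⟶ cst k T G) (p : cst k T G ⟶ Q)
    (w : i ≫ p = 0) (β : cst k T K ⟶ S) (hβ : β ≫ i = uu e T c) :
    ∃ φ : S ⟶ Q, β ≫ φ = uu e T (fun i => δ (c i)) ≫ p := by
  obtain ⟨D, hD⟩ := exists_D (X := X) T δ hδ h0
  refine ⟨sff (canon D G) i p w, ?_⟩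
  rw [beta_sff (canon D K) (canon D G) i p w (uu e T c) β hβ, der_uu e T δ D hD]

/-- The form with derivations over `ℤ`-modules of `Γ(T, O)`. -/
theorem exists_sff_der (T : Over (B0 k)) [IsAffine T.left] [Algebra k Γ(T.left, ⊤)]
    (hk : ∀ a : k, algebraMap k Γ(T.left, ⊤) a = T.hom.appTop ((Scheme.ΓSpecIso (CommRingCat.of k)).inv a))
    (δ : Derivation k Γ(T.left, ⊤) Γ(T.left, ⊤))
    (c : Fin n → Γ(T.left, ⊤)) {S Q : (PicF.XT (st k X) T).Modules} (i : S ⟶ cst k T G) (p : cst k T G ⟶ Q)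
    (w : i ≫ p = 0) (β : cst k T K ⟶ S) (hβ : β ≫ i = uu e T c) :
    ∃ φ : S ⟶ Q, β ≫ φ = uu e T (fun i => δ (c i)) ≫ p := by
  refine exists_sff e T (δ.toLinearMap.toAddMonoidHom) (fun a b => δ.leibniz a b) (fun x => ?_) c i p w β hβ
  have h1 : x = (Scheme.ΓSpecIso (CommRingCat.of k)).inv ((Scheme.ΓSpecIso (CommRingCat.of k)).hom x) := by
    rw [← ConcreteCategory.comp_apply, Iso.hom_inv_id]
    rfl
  rw [h1, ← hk]
  exact δ.map_algebraMap _

section ring

variable (A : Type u) [CommRing A] [Algebra k A]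

/-- A derivation of `A` as an additive map on `Γ(Spec A, ⊤)`. -/
noncomputable def dGam (δ : A →+ A) : Γ((SpA k A).left, ⊤) →+ Γ((SpA k A).left, ⊤) :=
  (Scheme.ΓSpecIso (CommRingCat.of A)).inv.hom.toAddMonoidHom.comp
    (δ.comp (Scheme.ΓSpecIso (CommRingCat.of A)).hom.hom.toAddMonoidHom)

theorem fn_surj (x : Γ((SpA k A).left, ⊤)) : fn k ((Scheme.ΓSpecIso (CommRingCat.of A)).hom x : A) = x := by
  change (Scheme.ΓSpecIso (CommRingCat.of A)).inv ((Scheme.ΓSpecIso (CommRingCat.of A)).hom x) = x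
  rw [← ConcreteCategory.comp_apply, Iso.hom_inv_id]
  rfl

theorem inv_fn (a : A) : ((Scheme.ΓSpecIso (CommRingCat.of A)).hom (fn k a) : A) = a := by
  change (Scheme.ΓSpecIso (CommRingCat.of A)).hom ((Scheme.ΓSpecIso (CommRingCat.of A)).inv a) = a
  rw [← ConcreteCategory.comp_apply, Iso.inv_hom_id]
  rfl

theorem dGam_fn (δ : A →+ A) (a : A) : dGam (k := k) A δ (fn k a) = fn k (δ a) := by
  change fn k (δ ((Scheme.ΓSpecIso (CommRingCat.of A)).hom (fn k a) : A)) = fn k (δ a)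
  rw [inv_fn]

theorem appTop_fn (a : k) : (SpA k A).hom.appTop ((Scheme.ΓSpecIso (CommRingCat.of k)).inv a) =
    fn k (algebraMap k A a) := by
  have h := Scheme.ΓSpecIso_inv_naturality (CommRingCat.ofHom (algebraMap k A))
  exact congr($h a).symm

theorem dGam_mul (δ : Derivation k A A) (a b : Γ((SpA k A).left, ⊤)) :
    dGam (k := k) A δ.toLinearMap.toAddMonoidHom (a * b) =
      a * dGam A δ.toLinearMap.toAddMonoidHom b + b * dGam A δ.toLinearMap.toAddMonoidHom a := by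
  obtain ⟨a', rfl⟩ : ∃ a', fn k a' = a := ⟨_, fn_surj A a⟩
  obtain ⟨b', rfl⟩ : ∃ b', fn k b' = b := ⟨_, fn_surj A b⟩
  rw [dGam_fn, dGam_fn, ← map_mul, dGam_fn, ← map_mul, ← map_mul, ← _root_.map_add]
  exact congrArg (fn k) (δ.leibniz _ _)

theorem dGam_base (δ : Derivation k A A) (c : Γ(B0 k, ⊤)) :
    dGam (k := k) A δ.toLinearMap.toAddMonoidHom ((SpA k A).hom.appTop c) = 0 := by
  have h1 : c = (Scheme.ΓSpecIso (CommRingCat.of k)).inv ((Scheme.ΓSpecIso (CommRingCat.of k)).hom c) := by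
    rw [← ConcreteCategory.comp_apply, Iso.hom_inv_id]
    rfl
  rw [h1, appTop_fn, dGam_fn]
  refine (congrArg (fn k) (?_ : _ = (0 : A))).trans (map_zero _)
  exact δ.map_algebraMap _

instance : IsAffine (SpA k A).left := inferInstanceAs (IsAffine (Spec (CommRingCat.of A)))

/-- The form over `Spec A`. -/
theorem exists_sff_ring (c : Fin n → A) (δ : Derivation k A A)
    {S Q : (PicF.XT (st k X) (SpA k A)).Modules} (i : S ⟶ cst k (SpA k A) G) (p : cst k (SpA k A) G ⟶ Q)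
    (w : i ≫ p = 0) (β : cst k (SpA k A) K ⟶ S) (hβ : β ≫ i = ueA e A c) :
    ∃ φ : S ⟶ Q, β ≫ φ = ueA e A (fun i => δ (c i)) ≫ p := by
  obtain ⟨φ, hφ⟩ := exists_sff e (SpA k A) (dGam (k := k) A δ.toLinearMap.toAddMonoidHom) (dGam_mul A δ)
    (dGam_base A δ) (fun i => fn k (c i)) i p w β hβ
  refine ⟨φ, hφ.trans ?_⟩
  have : (fun i => dGam (k := k) A δ.toLinearMap.toAddMonoidHom (fn k (c i))) = fun i => fn k (δ (c i)) :=
    funext fun i => dGam_fn A _ _
  rw [this]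

/-- **Derivations kill.** -/
theorem ksKill (c : Fin n → A) : KSKill (k := k) e A c := by
  intro Q p _ _ δ
  exact exists_sff_ring e A c δ (kernel.ι (πA e A c ≫ p)) (πA e A c ≫ p) (kernel.condition _) _
    (kernel.lift_ι _ _ _)

end ring

end K763.KS
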