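import Groth.Agent.StMod.K908.MkMod
import Groth.Agent.OmegaSh.K583.DerFunct
import Groth.Prelude.Def_Omega4

/-!
# Derivations of the structure sheaf and connections along them

`q : Z ⟶ X` a morphism of schemes.

* `ODer q`: an additive derivation `D` of `O_Z` which kills the functions of `X`;
* `Con D F`: a connection along `D` on an `O_Z`-module `F`: additive maps `∇ : F(U) → F(U)`, compatible with
  restrictions, with `∇ (f s) = f ∇ s + D f s`;
* `canon D L`: the canonical connection on `q^* L`, `∇ (q^* m) = 0`;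
* `hom ∇ ∇' α = ∇' α - α ∇`, an `O_Z`-linear map;
* `sff`: the second fundamental form `S ⟶ Q` of `S ⟶ F ⟶ Q`, `i ≫ p = 0`.
-/

set_option autoImplicit false
set_option linter.unusedVariables false

universe u

open CategoryTheory CategoryTheory.Limits AlgebraicGeometry TopologicalSpace Opposite OmegaSh

namespace K763.Tw

open K583.DerAffine K583.DerFunct K908.MkMod

variable {X Z : Scheme.{u}} (q : Z ⟶ X)

/-- An additive derivation of the structure sheaf of `Z` which kills the functions coming from `X`. -/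
structure ODer where
  /-- The values. -/
  d : ∀ U : Z.Opens, Γ(Z, U) →+ Γ(Z, U)
  mul : ∀ (U : Z.Opens) (a b : Γ(Z, U)), d U (a * b) = a * d U b + b * d U a
  map : ∀ {U V : Z.Opens} (h : V ≤ U) (a : Γ(Z, U)),
    d V (Z.presheaf.map (homOfLE h).op a) = Z.presheaf.map (homOfLE h).op (d U a)
  base : ∀ (V : X.Opens) (c : Γ(X, V)), d (q ⁻¹ᵁ V) (q.app V c) = 0

variable {q}

/-- A connection along a derivation. -/
structure Con (D : ODer q) (F : Z.Modules) where
  /-- The values. -/
  nab : ∀ U : Z.Opens, Γ(F, U) →+ Γ(F, U)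
  leib : ∀ (U : Z.Opens) (f : Γ(Z, U)) (s : Γ(F, U)), nab U (f • s) = f • nab U s + D.d U f • s
  res : ∀ {U V : Z.Opens} (h : V ≤ U) (s : Γ(F, U)),
    nab V (F.presheaf.map (homOfLE h).op s) = F.presheaf.map (homOfLE h).op (nab U s)

section twist

variable (D : ODer q) (F : Z.Modules)

/-- Sections of the twisted module. -/
def Sec (U : Z.Opens) : Type u := Γ(F, U) × Γ(F, U)

noncomputable instance (U : Z.Opens) : AddCommGroup (Sec F U) :=
  inferInstanceAs (AddCommGroup (Γ(F, U) × Γ(F, U)))

/-- The twisted action. -/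
noncomputable def act {U : Z.Opens} (f : Γ(Z, U)) (s : Sec F U) : Sec F U :=
  (f • s.1, f • s.2 + D.d U f • s.1)

theorem d_one (U : Z.Opens) : D.d U 1 = 0 := by
  have := D.mul U 1 1
  simpa using this

/-- The twisted module structure. -/
@[implicit_reducible]
noncomputable def modSec (U : Z.Opens) : Module Γ(Z, U) (Sec F U) where
  smul f s := act D F f s
  one_smul s := by
    change act D F 1 s = s
    unfold act
    rw [one_smul, one_smul, d_one, zero_smul, add_zero]
    rfl
  mul_smul f g s := by
    change act D F (f * g) s = act D F f (act D F g s)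
    unfold act
    refine Prod.ext (mul_smul _ _ _) ?_
    change (f * g) • s.2 + D.d U (f * g) • s.1 = f • (g • s.2 + D.d U g • s.1) + D.d U f • g • s.1
    rw [D.mul, smul_add, add_smul, mul_smul, mul_smul, mul_comm g, mul_smul]
    abel
  smul_zero f := by
    change act D F f 0 = 0
    unfold act
    refine Prod.ext (smul_zero _) ?_
    change f • (0 : Γ(F, U)) + D.d U f • (0 : Γ(F, U)) = 0
    rw [smul_zero, smul_zero, add_zero]
  smul_add f s t := by
    change act D F f (s + t) = act D F f s + act D F f t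
    unfold act
    refine Prod.ext (smul_add _ _ _) ?_
    change f • (s.2 + t.2) + D.d U f • (s.1 + t.1) =
      (f • s.2 + D.d U f • s.1) + (f • t.2 + D.d U f • t.1)
    rw [smul_add, smul_add]
    abel
  add_smul f g s := by
    change act D F (f + g) s = act D F f s + act D F g s
    unfold act
    refine Prod.ext (add_smul _ _ _) ?_
    change (f + g) • s.2 + D.d U (f + g) • s.1 =
      (f • s.2 + D.d U f • s.1) + (g • s.2 + D.d U g • s.1)
    rw [add_smul, map_add, add_smul]
    abel
  zero_smul s := by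
    change act D F 0 s = 0
    unfold act
    refine Prod.ext (zero_smul _ _) ?_
    change (0 : Γ(Z, U)) • s.2 + D.d U 0 • s.1 = 0
    rw [zero_smul, map_zero, zero_smul, add_zero]

/-- Restriction. -/
noncomputable def resSec {U V : Z.Opens} (h : V ≤ U) : Sec F U →+ Sec F V :=
  AddMonoidHom.prodMap (F.presheaf.map (homOfLE h).op).hom (F.presheaf.map (homOfLE h).op).hom

theorem map_self (F : Z.Modules) {U : Z.Opens} (h : U ≤ U) (s : Γ(F, U)) :
    F.presheaf.map (homOfLE h).op s = s := by
  have e1 : (homOfLE h).op = 𝟙 _ := rfl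
  rw [e1, CategoryTheory.Functor.map_id]
  rfl

theorem map_map (F : Z.Modules) {U V W : Z.Opens} (h : V ≤ U) (h' : W ≤ V) (s : Γ(F, U)) :
    F.presheaf.map (homOfLE h').op (F.presheaf.map (homOfLE h).op s) =
      F.presheaf.map (homOfLE (h'.trans h)).op s := by
  rw [← ConcreteCategory.comp_apply, ← Functor.map_comp]
  rfl

theorem glue_unique (F : Z.Modules) {ι : Type u} (U : ι → Z.Opens) (s : ∀ i, Γ(F, U i))
    (h : ∀ i j, F.presheaf.map (homOfLE (inf_le_left : U i ⊓ U j ≤ U i)).op (s i) =
      F.presheaf.map (homOfLE (inf_le_right : U i ⊓ U j ≤ U j)).op (s j)) :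
    ∃! t : Γ(F, iSup U), ∀ i, F.presheaf.map (homOfLE (le_iSup U i)).op t = s i :=
  TopCat.Sheaf.existsUnique_gluing ⟨F.presheaf, F.isSheaf⟩ U s h

/-- The elementary data of the twisted module. -/
noncomputable def dat : Data Z where
  sec U := Sec F U
  mod U := modSec D F U
  res h := resSec F h
  res_self h s := Prod.ext (map_self F h s.1) (map_self F h s.2)
  res_res h h' s := Prod.ext (map_map F h h' s.1) (map_map F h h' s.2)
  res_smul {U V} h r s := by
    refine Prod.ext (Scheme.Modules.map_smul F (homOfLE h) r s.1) ?_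
    change F.presheaf.map (homOfLE h).op (r • s.2 + D.d U r • s.1) =
      Z.presheaf.map (homOfLE h).op r • F.presheaf.map (homOfLE h).op s.2 +
        D.d V (Z.presheaf.map (homOfLE h).op r) • F.presheaf.map (homOfLE h).op s.1
    rw [map_add, Scheme.Modules.map_smul, Scheme.Modules.map_smul, D.map]
  glue U s h := by
    obtain ⟨t₁, h₁, u₁⟩ := glue_unique F U (fun i => (s i).1) (fun i j => congrArg Prod.fst (h i j))
    obtain ⟨t₂, h₂, u₂⟩ := glue_unique F U (fun i => (s i).2) (fun i j => congrArg Prod.snd (h i j))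
    refine ⟨(t₁, t₂), fun i => Prod.ext (h₁ i) (h₂ i), fun t ht => ?_⟩
    exact Prod.ext (u₁ t.1 fun i => congrArg Prod.fst (ht i)) (u₂ t.2 fun i => congrArg Prod.snd (ht i))

/-- The twisted module `P_D(F)`. -/
noncomputable def tw : Z.Modules := K908.MkMod.mk (dat D F)

/-- First component. -/
noncomputable def fstS (U : Z.Opens) : Γ(tw D F, U) →+ Γ(F, U) :=
  AddMonoidHom.fst Γ(F, U) Γ(F, U)

/-- Second component. -/
noncomputable def sndS (U : Z.Opens) : Γ(tw D F, U) →+ Γ(F, U) :=
  AddMonoidHom.snd Γ(F, U) Γ(F, U)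

/-- Pairs. -/
noncomputable def pairS (U : Z.Opens) (s t : Γ(F, U)) : Γ(tw D F, U) := (s, t)

theorem fstS_smul (U : Z.Opens) (f : Γ(Z, U)) (s : Γ(tw D F, U)) :
    fstS D F U (f • s) = f • fstS D F U s := rfl

theorem sndS_smul (U : Z.Opens) (f : Γ(Z, U)) (s : Γ(tw D F, U)) :
    sndS D F U (f • s) = f • sndS D F U s + D.d U f • fstS D F U s := rfl

theorem fstS_map {U V : Z.Opens} (h : V ≤ U) (s : Γ(tw D F, U)) :
    fstS D F V ((tw D F).presheaf.map (homOfLE h).op s) =
      F.presheaf.map (homOfLE h).op (fstS D F U s) := rfl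

theorem sndS_map {U V : Z.Opens} (h : V ≤ U) (s : Γ(tw D F, U)) :
    sndS D F V ((tw D F).presheaf.map (homOfLE h).op s) =
      F.presheaf.map (homOfLE h).op (sndS D F U s) := rfl

theorem sec_ext (U : Z.Opens) {s t : Γ(tw D F, U)} (h₁ : fstS D F U s = fstS D F U t)
    (h₂ : sndS D F U s = sndS D F U t) : s = t := Prod.ext h₁ h₂

/-- The projection to the first component is linear. -/
noncomputable def prj : tw D F ⟶ F :=
  K908.MkMod.homMk (fun U => fstS D F U) (fstS_smul D F) (fun h x => fstS_map D F h x)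

theorem prj_app (U : Z.Opens) (s : Γ(tw D F, U)) : (prj D F).app U s = fstS D F U s := rfl

end twist

section canon

variable (D : ODer q) (L : X.Modules)

/-- The pulled-back module. -/
noncomputable abbrev pb (q : Z ⟶ X) (L : X.Modules) : Z.Modules := (Scheme.Modules.pullback q).obj L

/-- `m ↦ (q^* m, 0)`. -/
noncomputable def c0 : L ⟶ (Scheme.Modules.pushforward q).obj (tw D (pb q L)) :=
  K908.MkMod.homMk
    (fun U => (show Γ(L, U) →+ Γ(tw D (pb q L), q ⁻¹ᵁ U) from
      { toFun := fun m => pairS D (pb q L) (q ⁻¹ᵁ U) (pullSect q L U m) 0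
        map_zero' := by
          rw [map_zero]
          rfl
        map_add' := fun a b => by
          rw [map_add]
          refine sec_ext D _ _ rfl ?_
          exact (add_zero _).symm }))
    (fun U r x => by
      refine sec_ext D (pb q L) (q ⁻¹ᵁ U) (pullSect_smul q L U r x) ?_
      change (0 : Γ(pb q L, q ⁻¹ᵁ U)) = q.app U r • (0 : Γ(pb q L, q ⁻¹ᵁ U)) +
        D.d (q ⁻¹ᵁ U) (q.app U r) • pullSect q L U x
      rw [D.base, smul_zero, zero_smul, add_zero])
    (fun {U V} h x => by
      refine sec_ext D (pb q L) (q ⁻¹ᵁ V) (pullSect_map q L h x) ?_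
      exact (map_zero ((pb q L).presheaf.map (homOfLE (q.preimage_mono h)).op).hom).symm)

theorem c0_app (U : X.Opens) (m : Γ(L, U)) :
    (c0 D L).app U m = (show Γ(tw D (pb q L), q ⁻¹ᵁ U) from
      pairS D (pb q L) (q ⁻¹ᵁ U) (pullSect q L U m) 0) := rfl

/-- The splitting `q^* L ⟶ P_D(q^* L)`. -/
noncomputable def spl : pb q L ⟶ tw D (pb q L) := adj q (c0 D L)

theorem spl_pullSect (U : X.Opens) (m : Γ(L, U)) :
    (spl D L).app (q ⁻¹ᵁ U) (pullSect q L U m) =
      pairS D (pb q L) (q ⁻¹ᵁ U) (pullSect q L U m) 0 := by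
  unfold spl
  rw [adj_pullSect]
  rfl

theorem spl_prj : spl D L ≫ prj D (pb q L) = 𝟙 _ := by
  apply pull_hom_ext
  intro U s
  change (prj D (pb q L)).app _ ((spl D L).app (q ⁻¹ᵁ U) (pullSect q L U s)) = pullSect q L U s
  rw [spl_pullSect]
  rfl

theorem fstS_spl (U : Z.Opens) (s : Γ(pb q L, U)) : fstS D (pb q L) U ((spl D L).app U s) = s := by
  have := congr(Scheme.Modules.Hom.app $(spl_prj D L) U s)
  exact this

/-- The canonical connection on a pull-back. -/
noncomputable def canon : Con D (pb q L) where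
  nab U := (sndS D (pb q L) U).comp ((spl D L).app U).hom
  leib U f s := by
    change sndS D (pb q L) U ((spl D L).app U (f • s)) =
      f • sndS D (pb q L) U ((spl D L).app U s) + D.d U f • s
    rw [Scheme.Modules.Hom.app_smul, sndS_smul, fstS_spl]
  res {U V} h s := by
    change sndS D (pb q L) V ((spl D L).app V ((pb q L).presheaf.map (homOfLE h).op s)) =
      (pb q L).presheaf.map (homOfLE h).op (sndS D (pb q L) U ((spl D L).app U s))
    rw [← sndS_map]
    congr 1
    have := (spl D L).mapPresheaf.naturality (homOfLE h).op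
    exact congr($this s)

theorem canon_pullSect (U : X.Opens) (m : Γ(L, U)) :
    (canon D L).nab (q ⁻¹ᵁ U) (pullSect q L U m) = 0 := by
  change sndS D (pb q L) (q ⁻¹ᵁ U) ((spl D L).app (q ⁻¹ᵁ U) (pullSect q L U m)) = 0
  rw [spl_pullSect]
  rfl

end canon

section calculus

variable {D : ODer q}

theorem hom_app_map {M N : Z.Modules} (φ : M ⟶ N) {U V : Z.Opens} (h : V ≤ U) (s : Γ(M, U)) :
    φ.app V (M.presheaf.map (homOfLE h).op s) = N.presheaf.map (homOfLE h).op (φ.app U s) := by
  have := φ.mapPresheaf.naturality (homOfLE h).op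
  exact congr($this s)

/-- The second fundamental form: `S ⟶ F ⟶ Q` with zero composite, `F` with a connection. -/
noncomputable def sff {F S Q : Z.Modules} (n : Con D F) (i : S ⟶ F) (p : F ⟶ Q) (w : i ≫ p = 0) : S ⟶ Q :=
  K908.MkMod.homMk (fun U => (p.app U).hom.comp ((n.nab U).comp (i.app U).hom))
    (fun U r x => by
      change p.app U (n.nab U (i.app U (r • x))) = r • p.app U (n.nab U (i.app U x))
      have h0 : p.app U (i.app U x) = 0 := congr(Scheme.Modules.Hom.app $w U x)
      rw [Scheme.Modules.Hom.app_smul, n.leib, map_add, Scheme.Modules.Hom.app_smul,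
        Scheme.Modules.Hom.app_smul, h0, smul_zero, add_zero])
    (fun {U V} h x => by
      change p.app V (n.nab V (i.app V (S.presheaf.map (homOfLE h).op x))) =
        Q.presheaf.map (homOfLE h).op (p.app U (n.nab U (i.app U x)))
      rw [hom_app_map, n.res, hom_app_map])

theorem sff_app {F S Q : Z.Modules} (n : Con D F) (i : S ⟶ F) (p : F ⟶ Q) (w : i ≫ p = 0) (U : Z.Opens)
    (s : Γ(S, U)) : (sff n i p w).app U s = p.app U (n.nab U (i.app U s)) := rfl

/-- The derivative of a morphism. -/
noncomputable def der {E F : Z.Modules} (m : Con D E) (n : Con D F) (α : E ⟶ F) : E ⟶ F :=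
  K908.MkMod.homMk (fun U => (n.nab U).comp (α.app U).hom - (α.app U).hom.comp (m.nab U))
    (fun U r x => by
      change n.nab U (α.app U (r • x)) - α.app U (m.nab U (r • x)) =
        r • (n.nab U (α.app U x) - α.app U (m.nab U x))
      rw [Scheme.Modules.Hom.app_smul, n.leib, m.leib, map_add, Scheme.Modules.Hom.app_smul,
        Scheme.Modules.Hom.app_smul, smul_sub]
      abel)
    (fun {U V} h x => by
      change n.nab V (α.app V (E.presheaf.map (homOfLE h).op x)) -
          α.app V (m.nab V (E.presheaf.map (homOfLE h).op x)) =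
        F.presheaf.map (homOfLE h).op (n.nab U (α.app U x) - α.app U (m.nab U x))
      rw [hom_app_map, n.res, m.res, hom_app_map, map_sub])

theorem der_app {E F : Z.Modules} (m : Con D E) (n : Con D F) (α : E ⟶ F) (U : Z.Opens) (s : Γ(E, U)) :
    (der m n α).app U s = n.nab U (α.app U s) - α.app U (m.nab U s) := rfl

theorem der_add {E F : Z.Modules} (m : Con D E) (n : Con D F) (α β : E ⟶ F) :
    der m n (α + β) = der m n α + der m n β := by
  apply Scheme.Modules.hom_ext
  intro U
  ext s
  change n.nab U (α.app U s + β.app U s) - (α.app U (m.nab U s) + β.app U (m.nab U s)) =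
    (n.nab U (α.app U s) - α.app U (m.nab U s)) + (n.nab U (β.app U s) - β.app U (m.nab U s))
  rw [map_add]
  abel

theorem der_zero {E F : Z.Modules} (m : Con D E) (n : Con D F) : der m n (0 : E ⟶ F) = 0 := by
  have := der_add m n (0 : E ⟶ F) 0
  simpa using this

theorem der_neg {E F : Z.Modules} (m : Con D E) (n : Con D F) (α : E ⟶ F) :
    der m n (-α) = -der m n α := by
  have := der_add m n α (-α)
  rw [add_neg_cancel, der_zero] at this
  exact (neg_eq_of_add_eq_zero_right this.symm).symm

theorem der_sum {E F : Z.Modules} (m : Con D E) (n : Con D F) {ι : Type*} (s : Finset ι)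
    (α : ι → (E ⟶ F)) : der m n (∑ i ∈ s, α i) = ∑ i ∈ s, der m n (α i) := by
  classical
  induction s using Finset.induction_on with
  | empty => simp [der_zero]
  | insert a s ha ih => rw [Finset.sum_insert ha, Finset.sum_insert ha, der_add, ih]

theorem der_comp {E F G : Z.Modules} (m : Con D E) (n : Con D F) (l : Con D G) (α : E ⟶ F) (β : F ⟶ G) :
    der m l (α ≫ β) = der m n α ≫ β + α ≫ der n l β := by
  apply Scheme.Modules.hom_ext
  intro U
  ext s
  change l.nab U (β.app U (α.app U s)) - β.app U (α.app U (m.nab U s)) =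
    β.app U (n.nab U (α.app U s) - α.app U (m.nab U s)) +
      (l.nab U (β.app U (α.app U s)) - β.app U (n.nab U (α.app U s)))
  rw [map_sub]
  abel

/-- The derivative of a pulled-back morphism vanishes. -/
theorem der_map {K L : X.Modules} (a : K ⟶ L) :
    der (canon D K) (canon D L) ((Scheme.Modules.pullback q).map a) = 0 := by
  apply pull_hom_ext
  intro U s
  have h1 : ∀ (U : X.Opens) (s : Γ(K, U)), ((Scheme.Modules.pullback q).map a).app (q ⁻¹ᵁ U)
      (pullSect q K U s) = pullSect q L U (a.app U s) := by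
    intro U s
    have := (Scheme.Modules.pullbackPushforwardAdjunction q).unit.naturality a
    exact congr(Scheme.Modules.Hom.app $this U s).symm
  rw [der_app, h1, canon_pullSect, canon_pullSect, map_zero, sub_zero]
  rfl

theorem beta_sff {E F S Q : Z.Modules} (m : Con D E) (n : Con D F) (i : S ⟶ F) (p : F ⟶ Q)
    (w : i ≫ p = 0) (α : E ⟶ F) (β : E ⟶ S) (hβ : β ≫ i = α) : β ≫ sff n i p w = der m n α ≫ p := by
  apply Scheme.Modules.hom_ext
  intro U
  ext s
  change p.app U (n.nab U (i.app U (β.app U s))) = p.app U (n.nab U (α.app U s) - α.app U (m.nab U s))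
  have h0 : ∀ x : Γ(E, U), p.app U (α.app U x) = 0 := by
    intro x
    have h1 : α ≫ p = 0 := by rw [← hβ, Category.assoc, w, comp_zero]
    exact congr(Scheme.Modules.Hom.app $h1 U x)
  rw [map_sub, h0, sub_zero, ← hβ]
  rfl

end calculus

end K763.Tw
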